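import Groth.Agent.PullbackMod.LocFree
import Groth.Agent.PullbackMod.Stalk
import Groth.Agent.ParaFLib.Gen
import Groth.Agent.DCohLib.Restrict
import Groth.Agent.FlatLocus.ModInjFlat
import Mathlib.RingTheory.TensorProduct.IsBaseChangeFree

/-!
# Frames of finite locally free modules, and the projection `M → f_* f^* M`
-/

set_option autoImplicit false
set_option backward.isDefEq.respectTransparency false
set_option linter.style.haveILetI false

universe u

open CategoryTheory CategoryTheory.Limits AlgebraicGeometry TopologicalSpace Opposite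
open Groth.Agent.PullbackMod Groth.Agent.CohBase Groth.Agent.QCohLib

noncomputable section

namespace Groth.Agent.VecFrameLib

variable {X : Scheme.{u}} {M : X.Modules} {ι : Type u} [Fintype ι]

/-- Combination of restrictions. -/
def comb {U : X.Opens} (s : ι → Γ(M, U)) {O : X.Opens} (h : O ≤ U) (r : ι → Γ(X, O)) : Γ(M, O) :=
  ∑ i, r i • M.presheaf.map (homOfLE h).op (s i)

theorem germ_comb {U : X.Opens} (s : ι → Γ(M, U)) {O : X.Opens} (h : O ≤ U) (r : ι → Γ(X, O)) {x : X} (hx : x ∈ O) :
    M.presheaf.germ O x hx (comb s h r) =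
      ∑ i, X.presheaf.germ O x hx (r i) • M.presheaf.germ U x (h hx) (s i) := by
  rw [comb, map_sum]
  refine Finset.sum_congr rfl fun i _ => ?_
  rw [← M.presheaf.germ_res_apply (homOfLE h) x hx (s i)]
  exact PresheafOfModules.germ_smul (R := X.presheaf) M.val x O hx (r i) _

theorem res_comb {U : X.Opens} (s : ι → Γ(M, U)) {O O' : X.Opens} (h : O ≤ U) (h' : O' ≤ O) (r : ι → Γ(X, O)) :
    M.presheaf.map (homOfLE h').op (comb s h r) = comb s (h'.trans h) (fun i => X.presheaf.map (homOfLE h').op (r i)) := by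
  rw [comb, map_sum]
  refine Finset.sum_congr rfl fun i _ => ?_
  rw [M.map_smul, ParaFLib.res_res]

/-- Sections whose germs are bases are frames. -/
theorem bijective_comb {U : X.Opens} (s : ι → Γ(M, U))
    (hb : ∀ (x : X) (hx : x ∈ U), Function.Bijective fun r : ι → X.presheaf.stalk x =>
      ∑ i, r i • M.presheaf.germ U x hx (s i))
    {O : X.Opens} (h : O ≤ U) : Function.Bijective (comb s h) := by
  have inj : ∀ {O : X.Opens} (h : O ≤ U), Function.Injective (comb s h) := by
    intro O h r r' e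
    funext i
    refine TopCat.Presheaf.section_ext X.sheaf O _ _ fun x hx => ?_
    have h1 := congrArg (M.presheaf.germ O x hx) e
    rw [germ_comb, germ_comb] at h1
    exact congrFun ((hb x (h hx)).1 h1) i
  refine ⟨inj h, fun v => ?_⟩
  have hloc : ∀ x : O, ∃ (W : X.Opens), x.1 ∈ W ∧ ∃ (hW : W ≤ O) (r : ι → Γ(X, W)),
      comb s (hW.trans h) r = M.presheaf.map (homOfLE hW).op v := by
    rintro ⟨x, hx⟩
    obtain ⟨c, hc⟩ := (hb x (h hx)).2 (M.presheaf.germ O x hx v)
    choose V hV r₀ hr₀ using fun i => TopCat.Presheaf.exists_germ_eq X.presheaf (c i)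
    let W₀ : X.Opens := O ⊓ Finset.univ.inf V
    have hxW₀ : x ∈ W₀ := ⟨hx, by
      show x ∈ ((Finset.univ.inf V : X.Opens) : Set X)
      rw [TopologicalSpace.Opens.coe_finset_inf]
      simpa using hV⟩
    have hle : ∀ i, W₀ ≤ V i := fun i => inf_le_right.trans (Finset.inf_le (Finset.mem_univ i))
    let r₁ : ι → Γ(X, W₀) := fun i => X.presheaf.map (homOfLE (hle i)).op (r₀ i)
    have e : M.presheaf.germ W₀ x hxW₀ (comb s ((inf_le_left : W₀ ≤ O).trans h) r₁) =
        M.presheaf.germ W₀ x hxW₀ (M.presheaf.map (homOfLE (inf_le_left : W₀ ≤ O)).op v) := by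
      rw [germ_comb, M.presheaf.germ_res_apply, ← hc]
      refine Finset.sum_congr rfl fun i _ => ?_
      rw [X.presheaf.germ_res_apply, hr₀]
    obtain ⟨W, hxW, i₁, i₂, hW⟩ := TopCat.Presheaf.germ_eq M.presheaf x hxW₀ hxW₀ _ _ e
    refine ⟨W, hxW, i₁.le.trans inf_le_left, fun i => X.presheaf.map (homOfLE i₁.le).op (r₁ i), ?_⟩
    rw [← res_comb s _ i₁.le]
    refine hW.trans ?_
    exact ParaFLib.res_res _ i₂.le v
  choose W hxW hWle r hr using hloc
  have hcov : O ≤ ⨆ x, W x := fun x hx => Opens.mem_iSup.2 ⟨⟨x, hx⟩, hxW _⟩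
  have hglue : ∀ i, ∃ g : Γ(X, O), ∀ x, X.presheaf.map (homOfLE (hWle x)).op g = r x i := fun i => by
    obtain ⟨g, hg, -⟩ := TopCat.Sheaf.existsUnique_gluing' X.sheaf W O (fun x => homOfLE (hWle x)) hcov
      (fun x => r x i) (fun x y => by
        refine congrFun (inj ((inf_le_left : W x ⊓ W y ≤ W x).trans ((hWle x).trans h))
          (a₁ := fun i => X.presheaf.map (homOfLE inf_le_left).op (r x i))
          (a₂ := fun i => X.presheaf.map (homOfLE inf_le_right).op (r y i)) ?_) i
        rw [← res_comb s ((hWle x).trans h) inf_le_left, hr]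
        refine Eq.trans ?_ ((res_comb s ((hWle y).trans h) (inf_le_right : W x ⊓ W y ≤ W y) (r y)))
        rw [hr, ParaFLib.res_res, ParaFLib.res_res])
    exact ⟨g, hg⟩
  choose g hg using hglue
  refine ⟨g, TopCat.Sheaf.eq_of_locally_eq' (⟨M.presheaf, M.isSheaf⟩ : TopCat.Sheaf Ab X) W O
    (fun x => homOfLE (hWle x)) hcov _ _ fun x => ?_⟩
  refine (res_comb s h (hWle x) g).trans ?_
  rw [show (fun i => X.presheaf.map (homOfLE (hWle x)).op (g i)) = r x from funext fun i => hg i x]
  exact hr x

/-- Frames of finite locally free modules. -/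
theorem exists_frame_nhd (hM : FlatMod.IsFinLocFree M) (x : X) :
    ∃ (D : X.Opens) (κ : Type u) (_ : Fintype κ) (s : κ → Γ(M, D)), x ∈ D ∧
      ∀ (y : X) (hy : y ∈ D), Function.Bijective fun r : κ → X.presheaf.stalk y =>
        ∑ i, r i • M.presheaf.germ D y hy (s i) := by
  obtain ⟨D, hD, n, hxD, ⟨e⟩⟩ := exists_tilde_iso M hM x
  haveI := (isQCoh_and_isFP_of_isFinLocFree M hM).1
  let eΓ := (moduleSpecΓFunctor (R := Γ(X, D))).mapIso e ≪≫
    ((tilde.toTildeΓNatIso (R := Γ(X, D))).app _).symm
  let e' : Γ(M, D) ≃ₗ[Γ(X, D)] (ULift.{u} (Fin n) →₀ Γ(X, D)) :=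
    (topEquiv M hD).symm.trans eΓ.toLinearEquiv
  let b : Module.Basis (ULift.{u} (Fin n)) Γ(X, D) Γ(M, D) := Module.Basis.ofRepr e'
  refine ⟨D, ULift.{u} (Fin n), inferInstance, b, hxD, fun y hy => ?_⟩
  letI := Module.compHom (M.presheaf.stalk y) (X.presheaf.germ D y hy).hom
  letI : Algebra Γ(X, D) (X.presheaf.stalk y) :=
    TopCat.Presheaf.algebra_section_stalk X.presheaf ⟨y, hy⟩
  haveI := hD.isLocalization_stalk ⟨y, hy⟩
  haveI : IsScalarTower Γ(X, D) (X.presheaf.stalk y) (M.presheaf.stalk y) :=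
    .of_algebraMap_smul fun _ _ => rfl
  haveI := FlatLocus.isLocalizedModule_germL M hD y hy
  let c := b.ofIsLocalizedModule (X.presheaf.stalk y) (hD.primeIdealOf ⟨y, hy⟩).asIdeal.primeCompl
    (FlatLocus.germL M D y hy)
  have hc : (fun r : ULift.{u} (Fin n) → X.presheaf.stalk y => ∑ i, r i • M.presheaf.germ D y hy (b i)) =
      c.equivFun.symm := funext fun r => by
    rw [c.equivFun_symm_apply]
    exact Finset.sum_congr rfl fun i _ => by rw [Module.Basis.ofIsLocalizedModule_apply]; rfl
  rw [hc]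
  exact c.equivFun.symm.bijective

variable {Y : Scheme.{u}} (f : Y ⟶ X)

/-- `M → f_* f^* M` is an isomorphism for `M` finite locally free when `O = f_* O`. -/
theorem isIso_unit (hf : ∀ U : X.Opens, Function.Bijective (f.app U)) (hM : FlatMod.IsFinLocFree M) :
    IsIso ((Scheme.Modules.pullbackPushforwardAdjunction f).unit.app M) := by
  haveI := (isQCoh_and_isFP_of_isFinLocFree M hM).1
  refine ParaFLib.isIso_of_locally_app _ fun x => ?_
  obtain ⟨D, κ, _, s, hxD, hs⟩ := exists_frame_nhd hM x
  refine ⟨D, hxD, fun O hO => ?_⟩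
  let s' : κ → Γ((Scheme.Modules.pullback f).obj M, f ⁻¹ᵁ D) := fun i => pullMap f M le_rfl (s i)
  have hs' : ∀ (y : Y) (hy : y ∈ f ⁻¹ᵁ D), Function.Bijective fun r : κ → Y.presheaf.stalk y =>
      ∑ i, r i • ((Scheme.Modules.pullback f).obj M).presheaf.germ (f ⁻¹ᵁ D) y hy (s' i) := fun y hy => by
    letI : Algebra (X.presheaf.stalk (f y)) (Y.presheaf.stalk y) := (f.stalkMap y).hom.toAlgebra
    letI := Module.compHom (((Scheme.Modules.pullback f).obj M).presheaf.stalk y) (f.stalkMap y).hom
    haveI : IsScalarTower (X.presheaf.stalk (f y)) (Y.presheaf.stalk y)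
        (((Scheme.Modules.pullback f).obj M).presheaf.stalk y) := .of_algebraMap_smul fun _ _ => rfl
    let L : (κ → X.presheaf.stalk (f y)) ≃ₗ[X.presheaf.stalk (f y)] M.presheaf.stalk (f y) :=
      LinearEquiv.ofBijective (Fintype.linearCombination (X.presheaf.stalk (f y))
        fun i => M.presheaf.germ D (f y) hy (s i)) (hs (f y) hy)
    let b : Module.Basis κ (X.presheaf.stalk (f y)) (M.presheaf.stalk (f y)) := Module.Basis.ofEquivFun L.symm
    have hb : ∀ i, b i = M.presheaf.germ D (f y) hy (s i) := fun i => by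
      classical
      simp [b, L, Fintype.linearCombination_apply_single]
    let c := (isBaseChange_pullStalkL f M y).basis b
    have hc : (fun r : κ → Y.presheaf.stalk y =>
        ∑ i, r i • ((Scheme.Modules.pullback f).obj M).presheaf.germ (f ⁻¹ᵁ D) y hy (s' i)) = c.equivFun.symm :=
      funext fun r => by
        rw [c.equivFun_symm_apply]
        exact Finset.sum_congr rfl fun i _ => by
          rw [IsBaseChange.basis_apply, hb]
          exact congrArg (r i • ·) (pullStalk_germ' f M y hy hy le_rfl (s i)).symm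
    rw [hc]
    exact c.equivFun.symm.bijective
  have key : (fun r : κ → Γ(X, O) => ((Scheme.Modules.pullbackPushforwardAdjunction f).unit.app M).app O (comb s hO r)) =
      fun r => comb s' (f.preimage_mono hO) (fun i => f.app O (r i)) := funext fun r => by
    show ((Scheme.Modules.pullbackPushforwardAdjunction f).unit.app M).app O (∑ i, r i • M.presheaf.map (homOfLE hO).op (s i)) = _
    rw [map_sum]
    refine Finset.sum_congr rfl fun i _ => ?_
    rw [Scheme.Modules.Hom.app_smul]
    refine congrArg (fun v : Γ((Scheme.Modules.pullback f).obj M, f ⁻¹ᵁ O) => f.app O (r i) • v) ?_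
    have hn := ((Scheme.Modules.pullbackPushforwardAdjunction f).unit.app M).mapPresheaf.naturality (homOfLE hO).op
    refine (congrArg (fun φ => φ.hom (s i)) hn).trans ?_
    show _ = ((Scheme.Modules.pullback f).obj M).presheaf.map (homOfLE (f.preimage_mono hO)).op
      (((Scheme.Modules.pullback f).obj M).presheaf.map (homOfLE le_rfl).op
        (((Scheme.Modules.pullbackPushforwardAdjunction f).unit.app M).app D (s i)))
    rw [ParaFLib.res_res]
    rfl
  have h2 : Function.Bijective fun r : κ → Γ(X, O) => comb s' (f.preimage_mono hO) (fun i => f.app O (r i)) :=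
    (bijective_comb s' hs' (f.preimage_mono hO)).comp
      ⟨fun r r' e => funext fun i => (hf O).1 (congrFun e i),
        fun t => ⟨fun i => ((hf O).2 (t i)).choose, funext fun i => ((hf O).2 (t i)).choose_spec⟩⟩
  rw [← key] at h2
  exact (Function.Bijective.of_comp_iff _ (bijective_comb s hs hO)).1 h2

end Groth.Agent.VecFrameLib
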