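import Groth.Agent.FlatBC.Scheme

/-!
# Flat base change of global sections, with the natural map
-/

set_option autoImplicit false
set_option backward.isDefEq.respectTransparency false
set_option linter.style.haveILetI false

universe u

open CategoryTheory Limits Opposite TopologicalSpace AlgebraicGeometry
open Groth.Agent.CohBase Groth.Agent.FlatBC
open scoped TensorProduct

noncomputable section

namespace Groth.Agent.VecFrameLib

variable {X S X' S' : Scheme.{u}} {f : X ⟶ S} {f' : X' ⟶ S'} {g' : X' ⟶ X} {g : S' ⟶ S}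
  (hc : IsPullback g' f' f g) [IsAffine S] [IsAffine S'] [CompactSpace X] [QuasiSeparatedSpace X]
  (M : X.Modules) [Coh.IsQCoh M]

include hc in
/-- Flat base change of global sections of a quasi-coherent module. -/
theorem exists_equiv_sections [Flat g] :
    letI : Algebra Γ(S, ⊤) Γ(S', ⊤) := g.appTop.hom.toAlgebra
    letI : Module Γ(S, ⊤) Γ(M, ⊤) := Module.compHom _ f.appTop.hom
    ∃ L : Γ(S', ⊤) ⊗[Γ(S, ⊤)] Γ(M, ⊤) ≃+ Γ((Scheme.Modules.pullback g').obj M, ⊤),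
      ∀ s m, L (s ⊗ₜ m) = f'.appTop s • PullbackMod.pullMap g' M (le_top : (⊤ : X'.Opens) ≤ g' ⁻¹ᵁ ⊤) m := by
  letI : Algebra Γ(S, ⊤) Γ(S', ⊤) := g.appTop.hom.toAlgebra
  letI : Module Γ(S, ⊤) Γ(M, ⊤) := Module.compHom _ f.appTop.hom
  haveI : Module.Flat Γ(S, ⊤) Γ(S', ⊤) := by
    rw [← RingHom.flat_algebraMap_iff, RingHom.algebraMap_toAlgebra]
    exact HasRingHomProperty.appTop @Flat g inferInstance
  let a := RingEquiv.refl Γ(S, ⊤)
  let b := RingEquiv.refl Γ(S', ⊤)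
  have hab : ∀ x, g.appTop (a x) = b (algebraMap Γ(S, ⊤) Γ(S', ⊤) x) := fun x => rfl
  let D := datum g' M (f.appTop.hom.comp a.toRingHom) (f'.appTop.hom.comp b.toRingHom) (comp_toGlobal hc a b hab)
  haveI : IsAffineHom g' := MorphismProperty.of_isPullback (P := @IsAffineHom) hc.flip inferInstance
  haveI : Coh.IsQCoh ((Scheme.Modules.pushforward g').obj (gM g' M)) := QCohLib.isQCoh_pushforward (gM g' M) g'
  have hgood := goodU_of_affine D (fun U hU m => affine_vanishing M hU m)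
    (fun U hU m => affine_vanishing ((Scheme.Modules.pushforward g').obj (gM g' M)) hU m)
    (good_affine hc M a b hab) ⊤ isCompact_univ 0
  let κ : E.{u} D (freeAb (⊤ : X.Opens)) 0 ≃+ Γ(M, ⊤) := H0Equiv (⊤ : X.Opens) (Coh.toAb M)
  have hκ : ∀ (x : Γ(S, ⊤)) (c : E.{u} D (freeAb (⊤ : X.Opens)) 0), κ (x • c) = x • κ c := fun x c => by
    refine (H0Equiv_hmap (⊤ : X.Opens) (Coh.smulAb M (f.appTop x)) c).trans ?_
    rw [Coh.smulAb_app]
    show X.presheaf.map _ (f.appTop x) • κ c = f.appTop x • κ c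
    congr 1
    exact congr($(X.presheaf.map_id (op ⊤)) (f.appTop x))
  let κL : E.{u} D (freeAb (⊤ : X.Opens)) 0 ≃ₗ[Γ(S, ⊤)] Γ(M, ⊤) := { κ with map_smul' := hκ }
  let i : Γ(S', ⊤) ⊗[Γ(S, ⊤)] Γ(M, ⊤) ≃+ Γ(S', ⊤) ⊗[Γ(S, ⊤)] E.{u} D (freeAb (⊤ : X.Opens)) 0 :=
    (TensorProduct.congr (LinearEquiv.refl Γ(S, ⊤) Γ(S', ⊤)) κL.symm).toAddEquiv
  let K : HU (⊤ : X.Opens) D.N 0 ≃+ Γ(gM g' M, ⊤) := H0Equiv (⊤ : X.Opens) D.N
  refine ⟨i.trans ((AddEquiv.ofBijective (θ D (freeAb (⊤ : X.Opens)) 0) hgood).trans K), fun s m => ?_⟩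
  show H0Equiv (⊤ : X.Opens) D.N (hmap (⊤ : X.Opens) (D.η ≫ D.σ s) 0 (κL.symm m)) = _
  rw [H0Equiv_hmap]
  have h1 : H0Equiv (⊤ : X.Opens) (Coh.toAb M) (κL.symm m) = m := κ.apply_symm_apply m
  refine (congrArg (fun z => ((D.η ≫ D.σ s).hom.app (op (⊤ : X.Opens))).hom z) h1).trans ?_
  show (show Γ(X', ⊤) from X'.presheaf.map (𝟙 (op (⊤ : X'.Opens))) (f'.appTop s)) •
      (show Γ(gM g' M, ⊤) from ((Scheme.Modules.pullbackPushforwardAdjunction g').unit.app M).app ⊤ m) =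
    f'.appTop s • (show Γ(gM g' M, ⊤) from (gM g' M).presheaf.map (homOfLE le_top).op
      (((Scheme.Modules.pullbackPushforwardAdjunction g').unit.app M).app ⊤ m))
  congr 1
  · exact congr($(X'.presheaf.map_id (op ⊤)) (f'.appTop s))
  · exact (congr($((gM g' M).presheaf.map_id (op ⊤)) _)).symm

end Groth.Agent.VecFrameLib
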