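import Groth.Agent.VecFrameLib.FlatH0
import Groth.Agent.PicTrivLib.Push
import Groth.Agent.PullbackMod.Descent
import Groth.Agent.SchDesc.QAffAlg
import Mathlib.RingTheory.Finiteness.Descent

/-!
# Invertible modules trivial after a faithfully flat base change
-/

set_option autoImplicit false
set_option backward.isDefEq.respectTransparency false
set_option backward.defeqAttrib.useBackward true
set_option linter.style.haveILetI false

universe u

open CategoryTheory CategoryTheory.Limits AlgebraicGeometry TopologicalSpace Opposite TensorProduct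
open Groth.Agent.CohBase Groth.Agent.ProjCoh Groth.Agent.FormalLib Groth.Agent.PullbackMod Groth.Agent.ParaFLib
  Groth.Agent.AmpleLib Groth.Agent.CubeLib

noncomputable section

namespace Groth.Agent.VecFrameLib

/-- Generators of a restriction are generators. -/
theorem gen_of_restrict {X : Scheme.{u}} {L : X.Modules} {U : X.Opens} {O : (U : Scheme.{u}).Opens}
    {s : Γ((Scheme.Modules.restrictFunctor U.ι).obj L, O)} (h : Gen O s) :
    Gen (L := L) (U.ι ''ᵁ O) s := by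
  intro O'' hO
  obtain ⟨a, rfl⟩ : ∃ a : (U : Scheme.{u}).Opens, U.ι ''ᵁ a = O'' :=
    ⟨U.ι ⁻¹ᵁ O'', by
      rw [Scheme.Hom.image_preimage_eq_opensRange_inf, Scheme.Opens.opensRange_ι]
      exact inf_eq_right.2 (hO.trans (by intro x hx; obtain ⟨z, -, rfl⟩ := hx; exact z.2))⟩
  have ha : a ≤ O := fun z hz => by
    obtain ⟨w, hw, hwz⟩ := hO (show U.ι z ∈ U.ι ''ᵁ a from ⟨z, hz, rfl⟩)
    rwa [← U.ι.isOpenEmbedding.injective hwz]
  have hb : Function.Bijective ((fun r : Γ(X, U.ι ''ᵁ a) => r • L.presheaf.map (homOfLE hO).op s) ∘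
      fun r : Γ((U : Scheme.{u}), a) => (U.ι.appIso a).inv r) := h a ha
  exact (Function.Bijective.of_comp_iff (fun r : Γ(X, U.ι ''ᵁ a) => r • L.presheaf.map (homOfLE hO).op s)
    (ConcreteCategory.bijective_of_isIso (U.ι.appIso a).inv)).1 hb

/-- An element of a prime-avoiding multiple. -/
theorem exists_mult {A B M : Type u} [CommRing A] [CommRing B] [Algebra A B] [Module.Flat A B]
    [AddCommGroup M] [Module A M] [Module.Finite A M] (p : Ideal A) [p.IsPrime] (q : Ideal B) [q.IsPrime]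
    (hqp : q.comap (algebraMap A B) = p) (m₀ : M) {c : B} (hc : c ∉ q)
    (h : ∀ m : M, ∃ d : B, c • ((1 : B) ⊗ₜ[A] m) = d • ((1 : B) ⊗ₜ[A] m₀)) :
    ∃ a ∉ p, ∀ m : M, ∃ r : A, a • m = r • m₀ := by
  classical
  let S : Submodule A M := A ∙ m₀
  have key : ∀ m : M, ∃ a ∉ p, a • m ∈ S := fun m => by
    let n : M ⧸ S := S.mkQ m
    let φ : A →ₗ[A] M ⧸ S := LinearMap.toSpanSingleton A _ n
    have hcn : φ.lTensor B (c ⊗ₜ 1) = 0 := by
      obtain ⟨d, hd⟩ := h m
      have := congrArg (S.mkQ.lTensor B) hd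
      rw [TensorProduct.smul_tmul', TensorProduct.smul_tmul', LinearMap.lTensor_tmul, LinearMap.lTensor_tmul,
        show S.mkQ m₀ = 0 from (Submodule.Quotient.mk_eq_zero S).2 (Submodule.mem_span_singleton_self m₀),
        TensorProduct.tmul_zero, smul_eq_mul, mul_one] at this
      rw [LinearMap.lTensor_tmul]
      show c ⊗ₜ ((1 : A) • n) = 0
      rwa [one_smul]
    have hex := Module.Flat.lTensor_exact B (LinearMap.exact_subtype_ker_map φ)
    obtain ⟨w, hw⟩ := (hex _).1 hcn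
    by_contra hno
    push Not at hno
    refine hc ?_
    have hker : ∀ z : B ⊗[A] LinearMap.ker φ,
        TensorProduct.rid A B ((LinearMap.ker φ).subtype.lTensor B z) ∈ q := by
      intro z
      induction z with
      | zero => simp
      | tmul b r =>
        rw [LinearMap.lTensor_tmul, TensorProduct.rid_tmul, Algebra.smul_def]
        refine q.mul_mem_right _ ?_
        rw [← Ideal.mem_comap, hqp]
        by_contra hr
        refine hno r.1 hr ((Submodule.Quotient.mk_eq_zero S).1 ?_)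
        exact r.2
      | add x y hx hy =>
        rw [map_add, map_add]
        exact q.add_mem hx hy
    have := hker w
    rwa [hw, TensorProduct.rid_tmul, one_smul] at this
  choose a ha ha' using key
  obtain ⟨G, hG⟩ := (Module.Finite.fg_top : (⊤ : Submodule A M).FG)
  refine ⟨∏ m ∈ G, a m, fun h => ?_, fun m => ?_⟩
  · obtain ⟨x, -, hx⟩ := ‹p.IsPrime›.prod_mem_iff.1 h
    exact ha x hx
  · have hm : m ∈ Submodule.span A (G : Set M) := hG ▸ Submodule.mem_top
    suffices (∏ m ∈ G, a m) • m ∈ S by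
      obtain ⟨r, hr⟩ := Submodule.mem_span_singleton.1 this
      exact ⟨r, hr.symm⟩
    induction hm using Submodule.span_induction with
    | mem x hx =>
      rw [← Finset.prod_erase_mul G a hx, mul_smul]
      exact S.smul_mem _ (ha' x)
    | zero => simp
    | add x y _ _ hx hy => rw [smul_add]; exact S.add_mem hx hy
    | smul r x _ hx => rw [smul_comm]; exact S.smul_mem r hx

/-- Affine base: a generator near every point. -/
theorem exists_gen_affine {X Y : Scheme.{u}} [IsAffine Y] (f : X ⟶ Y) [QuasiCompact f] [QuasiSeparated f]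
    (hf : Function.Bijective f.appTop) {S' : Scheme.{u}} [IsAffine S'] (q : S' ⟶ Y) [Flat q] [Surjective q]
    {L : X.Modules} (hL : PicF.IsInvertible L) (htriv : Triv ((Scheme.Modules.pullback (pullback.fst f q)).obj L))
    (y : Y) : ∃ (V : Y.Opens), y ∈ V ∧ ∃ t : Γ(L, f ⁻¹ᵁ V), Gen (f ⁻¹ᵁ V) t := by
  classical
  haveI : CompactSpace X := QuasiCompact.compactSpace_of_compactSpace f
  haveI : QuasiSeparatedSpace X := quasiSeparatedSpace_of_quasiSeparated f
  haveI := Groth.Agent.InvExt.isQCoh_of_isInvertible hL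
  let g1 := pullback.fst f q
  let f1 := pullback.snd f q
  have hc : IsPullback g1 f1 f q := IsPullback.of_hasPullback f q
  letI : Algebra Γ(Y, ⊤) Γ(S', ⊤) := q.appTop.hom.toAlgebra
  letI : Module Γ(Y, ⊤) Γ(L, ⊤) := Module.compHom _ f.appTop.hom
  haveI : Module.Flat Γ(Y, ⊤) Γ(S', ⊤) := by
    rw [← RingHom.flat_algebraMap_iff, RingHom.algebraMap_toAlgebra]
    exact HasRingHomProperty.appTop @Flat q inferInstance
  have hspec : Function.Surjective (PrimeSpectrum.comap (algebraMap Γ(Y, ⊤) Γ(S', ⊤))) := by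
    haveI : Surjective (S'.isoSpec.hom ≫ Spec.map q.appTop) := by
      rw [Scheme.isoSpec_hom_naturality]
      infer_instance
    haveI : Surjective (Spec.map q.appTop) := Surjective.of_comp S'.isoSpec.hom _
    exact (Spec.map q.appTop).surjective
  haveI : Module.FaithfullyFlat Γ(Y, ⊤) Γ(S', ⊤) := Module.FaithfullyFlat.of_comap_surjective hspec
  haveI : IsIso f.appTop := (ConcreteCategory.isIso_iff_bijective _).2 hf
  haveI hf1 : IsIso f1.appTop := (SchDesc.isPushout_appTop hc).isIso_inr_of_isIso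
  obtain ⟨τ, hτ⟩ := htriv
  obtain ⟨Λ, hΛ⟩ := exists_equiv_sections hc L
  have hb : Function.Bijective fun c : Γ(S', ⊤) => f1.appTop c • τ := by
    have h := hτ ⊤ le_rfl
    simp only [ParaFLib.res_self] at h
    exact h.comp (ConcreteCategory.bijective_of_isIso f1.appTop)
  let θ : Γ(S', ⊤) → Γ(S', ⊤) ⊗[Γ(Y, ⊤)] Γ(L, ⊤) := fun c => Λ.symm (f1.appTop c • τ)
  have hsmul : ∀ (c : Γ(S', ⊤)) (z : Γ(S', ⊤) ⊗[Γ(Y, ⊤)] Γ(L, ⊤)), Λ (c • z) = f1.appTop c • Λ z := fun c z => by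
    induction z with
    | zero => simp
    | tmul s m =>
      rw [TensorProduct.smul_tmul', hΛ, hΛ, smul_eq_mul, map_mul, mul_smul]
    | add x y hx hy => rw [smul_add, map_add, map_add, hx, hy, smul_add]
  let Θ : Γ(S', ⊤) ≃ₗ[Γ(S', ⊤)] Γ(S', ⊤) ⊗[Γ(Y, ⊤)] Γ(L, ⊤) := LinearEquiv.ofBijective
    { toFun := θ
      map_add' := fun a b => by simp only [θ, map_add, add_smul]
      map_smul' := fun a b => Λ.injective (by
        simp only [θ, RingHom.id_apply, smul_eq_mul, hsmul, AddEquiv.apply_symm_apply, map_mul, mul_smul]) }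
    (Λ.symm.bijective.comp hb)
  haveI : Module.Finite Γ(S', ⊤) (Γ(S', ⊤) ⊗[Γ(Y, ⊤)] Γ(L, ⊤)) := Module.Finite.equiv Θ
  haveI : Module.Finite Γ(Y, ⊤) Γ(L, ⊤) := Module.Finite.of_finite_tensorProduct_of_faithfullyFlat Γ(S', ⊤)
  let e := Θ.symm
  let P := (isAffineOpen_top Y).primeIdealOf ⟨y, trivial⟩
  obtain ⟨Q, hQ⟩ := hspec P
  have hc' : ∃ m₀ : Γ(L, ⊤), e ((1 : Γ(S', ⊤)) ⊗ₜ m₀) ∉ Q.asIdeal := by
    by_contra hno
    push Not at hno
    refine Q.isPrime.ne_top ((Ideal.eq_top_iff_one _).2 ?_)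
    have : ∀ z, e z ∈ Q.asIdeal := fun z => by
      induction z with
      | zero => simp
      | tmul s m =>
        rw [show s ⊗ₜ[Γ(Y, ⊤)] m = s • ((1 : Γ(S', ⊤)) ⊗ₜ m) by rw [TensorProduct.smul_tmul', smul_eq_mul, mul_one],
          map_smul, smul_eq_mul]
        exact Q.asIdeal.mul_mem_left _ (hno m)
      | add x y hx hy => rw [map_add]; exact Q.asIdeal.add_mem hx hy
    simpa [e] using this (Θ 1)
  obtain ⟨m₀, hm₀⟩ := hc'
  obtain ⟨a, haP, ha⟩ := exists_mult P.asIdeal Q.asIdeal (congrArg PrimeSpectrum.asIdeal hQ) m₀ hm₀ fun m =>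
    ⟨e ((1 : Γ(S', ⊤)) ⊗ₜ m), e.injective (by rw [map_smul, map_smul, smul_eq_mul, smul_eq_mul, mul_comm])⟩
  -- `a` is a multiple of the image of `m₀`
  obtain ⟨b, hb'⟩ : ∃ b, algebraMap Γ(Y, ⊤) Γ(S', ⊤) a = b * e ((1 : Γ(S', ⊤)) ⊗ₜ m₀) := by
    have : ∀ z, ∃ b, algebraMap Γ(Y, ⊤) Γ(S', ⊤) a * e z = b * e ((1 : Γ(S', ⊤)) ⊗ₜ m₀) := fun z => by
      induction z with
      | zero => exact ⟨0, by simp⟩
      | tmul s m =>
        obtain ⟨r, hr⟩ := ha m
        refine ⟨s * algebraMap Γ(Y, ⊤) Γ(S', ⊤) r, ?_⟩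
        rw [show s ⊗ₜ[Γ(Y, ⊤)] m = s • ((1 : Γ(S', ⊤)) ⊗ₜ m) by rw [TensorProduct.smul_tmul', smul_eq_mul, mul_one],
          map_smul, smul_eq_mul, mul_left_comm, mul_assoc, ← smul_eq_mul (algebraMap Γ(Y, ⊤) Γ(S', ⊤) a),
          ← smul_eq_mul (algebraMap Γ(Y, ⊤) Γ(S', ⊤) r), ← map_smul, ← map_smul, algebraMap_smul, algebraMap_smul,
          ← TensorProduct.tmul_smul, ← TensorProduct.tmul_smul, hr]
      | add x y hx hy =>
        obtain ⟨b, hb⟩ := hx
        obtain ⟨b', hb'⟩ := hy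
        exact ⟨b + b', by rw [map_add, mul_add, hb, hb', add_mul]⟩
    obtain ⟨b, hb⟩ := this (Θ 1)
    exact ⟨b, by simpa [e] using hb⟩
  let V := Y.basicOpen a
  have hyV : y ∈ V := by
    have h := SetLike.ext_iff.mp ((isAffineOpen_top Y).fromSpec_preimage_basicOpen a) P
    rw [Scheme.Hom.mem_preimage, IsAffineOpen.fromSpec_primeIdealOf] at h
    exact h.2 haP
  let W' : (pullback f q).Opens := f1 ⁻¹ᵁ (q ⁻¹ᵁ V)
  have hW' : W' ≤ g1 ⁻¹ᵁ (f ⁻¹ᵁ V) := fun z hz => by
    show (g1 ≫ f) z ∈ V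
    rw [hc.w]
    exact hz
  refine ⟨V, hyV, L.presheaf.map (homOfLE le_top).op m₀, gen_of_pullMap g1 hL hW' (fun x hx => ?_) ?_⟩
  · obtain ⟨z, hz⟩ := g1.surjective x
    refine ⟨z, ?_, hz⟩
    show (f1 ≫ q) z ∈ V
    rw [← hc.w]
    show f (g1 z) ∈ V
    rw [hz]
    exact hx
  · have e1 : pullMap g1 L (le_top : (⊤ : (pullback f q).Opens) ≤ g1 ⁻¹ᵁ ⊤) m₀ =
        f1.appTop (e ((1 : Γ(S', ⊤)) ⊗ₜ m₀)) • τ := by
      have h1 : Λ ((1 : Γ(S', ⊤)) ⊗ₜ m₀) = Λ (θ (e ((1 : Γ(S', ⊤)) ⊗ₜ m₀))) :=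
        congrArg Λ (Θ.apply_symm_apply ((1 : Γ(S', ⊤)) ⊗ₜ m₀)).symm
      rw [hΛ, map_one, one_smul, AddEquiv.apply_symm_apply] at h1
      exact h1
    rw [← pullMap_res g1 L (le_top : (⊤ : (pullback f q).Opens) ≤ g1 ⁻¹ᵁ ⊤) le_top (le_top : W' ≤ ⊤) hW', e1,
      ((Scheme.Modules.pullback g1).obj L).map_smul]
    refine (hτ.res le_top).smul (isUnit_of_mul_isUnit_right (x := (pullback f q).presheaf.map
      (homOfLE (le_top : W' ≤ ⊤)).op (f1.appTop b)) ?_)
    rw [← map_mul, ← map_mul, ← hb']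
    have hle : W' ≤ (pullback f q).basicOpen (f1.appTop (q.appTop a)) := by
      rw [← Scheme.preimage_basicOpen_top, ← Scheme.preimage_basicOpen_top]
    obtain ⟨w, hw⟩ : ∃ w, f1.appTop (q.appTop a) = w := ⟨_, rfl⟩
    show IsUnit ((pullback f q).presheaf.map (homOfLE (le_top : W' ≤ ⊤)).op (f1.appTop (q.appTop a)))
    rw [hw] at hle ⊢
    have hu : IsUnit ((pullback f q).presheaf.map (homOfLE hle).op
        ((pullback f q).presheaf.map (homOfLE ((pullback f q).basicOpen_le w)).op w)) :=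
      ((pullback f q).toRingedSpace.isUnit_res_basicOpen w).map
        ((pullback f q).presheaf.map (homOfLE hle).op).hom
    rw [← CategoryTheory.ConcreteCategory.comp_apply, ← Functor.map_comp] at hu
    exact hu

/-- Local generators give invertibility of the direct image and the counit isomorphism. -/
theorem push_of_local_gen {X Y : Scheme.{u}} (f : X ⟶ Y) (hf : ∀ V : Y.Opens, Function.Bijective (f.app V))
    {P : X.Modules} (h : ∀ y : Y, ∃ (V : Y.Opens), y ∈ V ∧ ∃ t : Γ(P, f ⁻¹ᵁ V), Gen (f ⁻¹ᵁ V) t) :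
    PicF.IsInvertible ((Scheme.Modules.pushforward f).obj P) ∧
      IsIso ((Scheme.Modules.pullbackPushforwardAdjunction f).counit.app P) := by
  choose U hy s hs using h
  have hg : ∀ y, Gen (L := (Scheme.Modules.pushforward f).obj P) (U y) (s y) := fun y =>
    PicTrivLib.gen_pushforward f (hs y) fun V _ => hf V
  have hinv : PicF.IsInvertible ((Scheme.Modules.pushforward f).obj P) :=
    isInvertible_of_gen fun y => ⟨U y, s y, hy y, hg y⟩
  refine ⟨hinv, ParaFLib.isIso_of_locally_app _ fun x => ?_⟩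
  refine ⟨f ⁻¹ᵁ U (f x), hy (f x), fun O hO => ?_⟩
  have hg' := gen_pullMap f hinv (hg (f x)) hO O le_rfl
  have hs' := hs (f x) O hO
  have key : ∀ r : Γ(X, O), ((Scheme.Modules.pullbackPushforwardAdjunction f).counit.app P).app O
      (r • pullMap f ((Scheme.Modules.pushforward f).obj P) (W := U (f x)) hO (s (f x))) =
      r • P.presheaf.map (homOfLE hO).op (s (f x)) := fun r => by
    rw [Scheme.Modules.Hom.app_smul]
    congr 1
    exact PicTrivLib.counit_pullMap f _ hO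
  simp only [ParaFLib.res_self] at hg'
  refine ⟨fun a b hab => ?_, fun c => ?_⟩
  · obtain ⟨r, rfl⟩ := hg'.2 a
    obtain ⟨r', rfl⟩ := hg'.2 b
    simp only [key] at hab
    rw [hs'.1 hab]
  · obtain ⟨r, rfl⟩ := hs'.2 c
    exact ⟨_, key r⟩

/-- Invertible modules trivial after a quasi-compact faithfully flat base change come from the base. -/
theorem push_of_triv {X Y Y' : Scheme.{u}}
    (f : X ⟶ Y) [QuasiCompact f] [QuasiSeparated f] (hf : ∀ V : Y.Opens, Function.Bijective (f.app V))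
    (g : Y' ⟶ Y) [Flat g] [Surjective g] {L : X.Modules} (hL : PicF.IsInvertible L)
    (hl : ∀ W : Y.Opens, IsAffineOpen W → HasAffineLift g W)
    (htriv : Triv ((Scheme.Modules.pullback (pullback.fst f g)).obj L)) :
    PicF.IsInvertible ((Scheme.Modules.pushforward f).obj L) ∧
      IsIso ((Scheme.Modules.pullbackPushforwardAdjunction f).counit.app L) := by
  refine push_of_local_gen f hf fun y => ?_
  obtain ⟨_, ⟨W : Y.Opens, (hW : IsAffineOpen W), rfl⟩, hyW, -⟩ :=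
    Y.isBasis_affineOpens.exists_subset_of_mem_open (Set.mem_univ y) isOpen_univ
  obtain ⟨n, U, hU, hle, hcov⟩ := hl W hW
  haveI : ∀ i, IsAffine (U i : Scheme.{u}) := fun i => hU i
  haveI : IsAffine (W : Scheme.{u}) := hW
  let S' : Scheme.{u} := ∐ fun i : ULift.{u} (Fin n) => (U i.down : Scheme.{u})
  let q : S' ⟶ (W : Scheme.{u}) := Sigma.desc fun i => Y'.homOfLE (hle i.down) ≫ g ∣_ W
  let r : S' ⟶ Y' := Sigma.desc fun i => (U i.down).ι
  have hqr : r ≫ g = q ≫ W.ι := Sigma.hom_ext _ _ fun i => by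
    simp [q, r, morphismRestrict_ι]
  haveI : Flat q := IsZariskiLocalAtSource.sigmaDesc fun i => inferInstance
  haveI : Surjective q := ⟨fun w => by
    obtain ⟨i, x', hx', hgx⟩ := hcov w.1 w.2
    refine ⟨Sigma.ι (fun i : ULift.{u} (Fin n) => (U i.down : Scheme.{u})) ⟨i⟩ ⟨x', hx'⟩, W.ι.isOpenEmbedding.injective ?_⟩
    show (Sigma.ι (fun i : ULift.{u} (Fin n) => (U i.down : Scheme.{u})) ⟨i⟩ ≫ q ≫ W.ι) ⟨x', hx'⟩ = w.1
    rw [← hqr, ← Category.assoc, Sigma.ι_desc]
    exact hgx⟩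
  let Lw := (Scheme.Modules.restrictFunctor (f ⁻¹ᵁ W).ι).obj L
  have eLw := (Scheme.Modules.restrictFunctorIsoPullback (f ⁻¹ᵁ W).ι).app L
  have hLw : PicF.IsInvertible Lw := ParaFLib.isInvertible_of_iso eLw.symm (isInvertible_pullback _ hL)
  have htw : Triv ((Scheme.Modules.pullback (pullback.fst (f ∣_ W) q)).obj Lw) := by
    let m : pullback (f ∣_ W) q ⟶ pullback f g := pullback.map _ _ _ _ (f ⁻¹ᵁ W).ι r W.ι
      (morphismRestrict_ι f W) hqr.symm
    have h1 := (triv_pullback_comp_iff m (pullback.fst f g) (pullback.lift_fst _ _ _)).1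
      (htriv.pullback m (isInvertible_pullback _ hL))
    exact ((triv_pullback_comp_iff (pullback.fst (f ∣_ W) q) (f ⁻¹ᵁ W).ι rfl).2 h1).of_iso
      ((Scheme.Modules.pullback _).mapIso eLw.symm)
  have hfW : Function.Bijective (f ∣_ W).appTop := by
    rw [← ConcreteCategory.isIso_iff_bijective]
    haveI : ∀ V, IsIso (f.app V) := fun V => (ConcreteCategory.isIso_iff_bijective _).2 (hf V)
    rw [Scheme.Hom.appTop, morphismRestrict_app]
    infer_instance
  obtain ⟨V, hyV, t, ht⟩ := exists_gen_affine (f ∣_ W) hfW q hLw htw ⟨y, hyW⟩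
  have h2 := gen_of_restrict ht
  have he : f ⁻¹ᵁ (W.ι ''ᵁ V) = (f ⁻¹ᵁ W).ι ''ᵁ ((f ∣_ W) ⁻¹ᵁ V) := (image_morphismRestrict_preimage f W V).symm
  exact ⟨W.ι ''ᵁ V, ⟨⟨y, hyW⟩, hyV, rfl⟩, L.presheaf.map (homOfLE he.le).op t, Gen.res (W := (f ⁻¹ᵁ W).ι ''ᵁ ((f ∣_ W) ⁻¹ᵁ V)) h2 he.le⟩

end Groth.Agent.VecFrameLib
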